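import Cfsg.Agent.H804.L34.HermCount

/-!
# The functionals on the hermitian matrices invariant under `3²` (helper804, S5917)
-/

set_option autoImplicit false

namespace Cfsg.Agent.H804.L34

open Matrix Cfsg.Agent.H691.L34 Cfsg.Agent.H204.L34

section
variable {F : Type} [Field F]

/-- `diag(1, w, w²)` -/
def gD (w : F) (hw : w ^ 3 = 1) : G3 F := ⟨Matrix.diagonal ![1, w, w ^ 2], by
  rw [Matrix.det_diagonal, Fin.prod_univ_three]
  simp
  linear_combination hw⟩

/-- the cyclic permutation matrix -/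
def gP (F : Type) [Field F] : G3 F := ⟨!![0, 1, 0; 0, 0, 1; 1, 0, 0], by
  rw [Matrix.det_fin_three]
  simp⟩

/-- the diagonal entries of `gD` -/
def dv (w : F) (i : Fin 3) : F := if i = 0 then 1 else if i = 1 then w else w ^ 2

theorem hact_gD (w : F) (hw : w ^ 3 = 1) (X : M3 F) (i j : Fin 3) :
    hact (gD w hw) X i j = dv w i * X i j * (dv w j) ^ 2 := by
  rw [hact_apply]
  have h : ∀ i j, (gD w hw).1 i j = if i = j then dv w i else 0 := by
    intro i j
    show Matrix.diagonal ![1, w, w ^ 2] i j = _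
    rw [Matrix.diagonal_apply]
    fin_cases i <;> fin_cases j <;> simp [dv]
  simp only [h]
  fin_cases i <;> fin_cases j <;> simp

theorem hact_gP (X : M3 F) (i j : Fin 3) : hact (gP F) X i j = X (i + 1) (j + 1) := by
  rw [hact_apply]
  have h : ∀ i j, (gP F).1 i j = if j = i + 1 then 1 else 0 := by
    intro i j
    show (!![0, 1, 0; 0, 0, 1; 1, 0, 0] : M3 F) i j = _
    fin_cases i <;> fin_cases j <;> simp
  simp only [h]
  fin_cases i <;> fin_cases j <;> simp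

/-- off-diagonal hermitian matrices -/
def z01 (u : F) : M3 F := !![0, u, 0; u ^ 2, 0, 0; 0, 0, 0]
def z02 (u : F) : M3 F := !![0, 0, u; 0, 0, 0; u ^ 2, 0, 0]
def z12 (u : F) : M3 F := !![0, 0, 0; 0, 0, u; 0, u ^ 2, 0]
def e0 (t : F) : M3 F := !![t, 0, 0; 0, 0, 0; 0, 0, 0]
def e1 (t : F) : M3 F := !![0, 0, 0; 0, t, 0; 0, 0, 0]
def e2 (t : F) : M3 F := !![0, 0, 0; 0, 0, 0; 0, 0, t]

theorem HF_of {X : M3 F} (h00 : (X 0 0) ^ 2 = X 0 0) (h11 : (X 1 1) ^ 2 = X 1 1) (h22 : (X 2 2) ^ 2 = X 2 2)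
    (h10 : (X 0 1) ^ 2 = X 1 0) (h20 : (X 0 2) ^ 2 = X 2 0) (h21 : (X 1 2) ^ 2 = X 2 1)
    (h01 : (X 1 0) ^ 2 = X 0 1) (h02 : (X 2 0) ^ 2 = X 0 2) (h12 : (X 2 1) ^ 2 = X 1 2) : HF X := by
  unfold HF ct
  ext i j
  fin_cases i <;> fin_cases j <;> simp [*]

theorem HF_zero : HF (0 : M3 F) := by
  refine HF_of ?_ ?_ ?_ ?_ ?_ ?_ ?_ ?_ ?_ <;> simp

theorem HF_one : HF (1 : M3 F) := ct_one

theorem HF_add (h2 : (2 : F) = 0) {X Y : M3 F} (hX : HF X) (hY : HF Y) : HF (X + Y) := by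
  have e : ∀ i j, (X j i + Y j i) ^ 2 = X i j + Y i j := fun i j => by
    rw [← HF_apply hX i j, ← HF_apply hY i j]
    linear_combination (X j i * Y j i) * h2
  unfold HF ct
  ext i j
  exact e i j

variable {w : F} (hw : w ^ 2 + w + 1 = 0) (h2 : (2 : F) = 0) (h4 : ∀ x : F, x ^ 4 = x)

section fun_
variable {l : M3 F → ZMod 2} (hadd : ∀ X Y, HF X → HF Y → l (X + Y) = l X + l Y)
include hadd

theorem l_zero : l 0 = 0 := by
  have h := hadd 0 0 HF_zero HF_zero
  rw [add_zero] at h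
  revert h
  generalize l 0 = t
  revert t
  decide

theorem off {Z : F → M3 F} (hZ : ∀ u, HF (Z u)) (hZa : ∀ u v, Z (u + v) = Z u + Z v) {c : F} (hc : c ^ 2 + c + 1 = 0)
    (hl : ∀ u, l (Z (c * u)) = l (Z u)) (u : F) : l (Z u) = 0 := by
  have h0 : Z 0 = 0 := by
    have h := hZa 0 0
    rw [add_zero] at h
    exact left_eq_add.1 h
  have h1 : l (Z u) + l (Z (c * u)) + l (Z (c * (c * u))) = 0 := by
    rw [← hadd _ _ (hZ _) (hZ _), ← hZa, ← hadd _ _ (hZ _) (hZ _), ← hZa]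
    have : u + c * u + c * (c * u) = 0 := by linear_combination u * hc
    rw [this, h0, l_zero hadd]
  rw [hl (c * u), hl u] at h1
  revert h1
  generalize l (Z u) = t
  revert t
  decide

end fun_

/-- `0 ↦ 0`, everything else `↦ 1` -/
noncomputable def tt (x : F) : ZMod 2 := by
  classical
  exact if x = 0 then 0 else 1

theorem tt_zero : tt (0 : F) = 0 := by
  unfold tt
  exact if_pos rfl

theorem tt_one : tt (1 : F) = 1 := by
  unfold tt
  exact if_neg one_ne_zero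

theorem zo {x : F} (h : x ^ 2 = x) : x = 0 ∨ x = 1 := by
  have : x * (x - 1) = 0 := by linear_combination h
  rcases mul_eq_zero.1 this with h | h
  · exact Or.inl h
  · exact Or.inr (sub_eq_zero.1 h)

include hw h2 h4

theorem func_eq {hw3 : w ^ 3 = 1} {l : M3 F → ZMod 2} (hadd : ∀ X Y, HF X → HF Y → l (X + Y) = l X + l Y)
    (hD : ∀ X, HF X → l (hact (gD w hw3) X) = l X) (hP : ∀ X, HF X → l (hact (gP F) X) = l X) (h1 : l 1 = 1)
    {X : M3 F} (hX : HF X) : l X = tt (X 0 0) + tt (X 1 1) + tt (X 2 2) := by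
  have hw' : (w ^ 2) ^ 2 + w ^ 2 + 1 = 0 := by linear_combination (w ^ 2 - w + 1) * hw
  have s2 : ∀ u v : F, (u + v) ^ 2 = u ^ 2 + v ^ 2 := fun u v => by linear_combination (u * v) * h2
  have hh : ∀ u : F, (u ^ 2) ^ 2 = u := fun u => by rw [← pow_mul]; exact h4 u
  have H01 : ∀ u : F, HF (z01 u) := fun u => by
    refine HF_of ?_ ?_ ?_ ?_ ?_ ?_ ?_ ?_ ?_ <;> simp [z01, hh]
  have H02 : ∀ u : F, HF (z02 u) := fun u => by
    refine HF_of ?_ ?_ ?_ ?_ ?_ ?_ ?_ ?_ ?_ <;> simp [z02, hh]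
  have H12 : ∀ u : F, HF (z12 u) := fun u => by
    refine HF_of ?_ ?_ ?_ ?_ ?_ ?_ ?_ ?_ ?_ <;> simp [z12, hh]
  have He0 : ∀ t : F, t ^ 2 = t → HF (e0 t) := fun u h => by
    refine HF_of ?_ ?_ ?_ ?_ ?_ ?_ ?_ ?_ ?_ <;> simp [e0, h]
  have He1 : ∀ t : F, t ^ 2 = t → HF (e1 t) := fun u h => by
    refine HF_of ?_ ?_ ?_ ?_ ?_ ?_ ?_ ?_ ?_ <;> simp [e1, h]
  have He2 : ∀ t : F, t ^ 2 = t → HF (e2 t) := fun u h => by
    refine HF_of ?_ ?_ ?_ ?_ ?_ ?_ ?_ ?_ ?_ <;> simp [e2, h]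
  have L01 : ∀ u, l (z01 u) = 0 := by
    refine off hadd H01 (fun u v => ?_) hw' fun u => ?_
    · ext i j
      fin_cases i <;> fin_cases j <;> simp [z01, s2]
    · rw [← hD _ (H01 u)]
      congr 1
      ext i j
      fin_cases i <;> fin_cases j <;> simp [z01, hact_gD, dv]
      · ring
      · linear_combination (w * u ^ 2) * hw3
  have L02 : ∀ u, l (z02 u) = 0 := by
    refine off hadd H02 (fun u v => ?_) hw fun u => ?_
    · ext i j
      fin_cases i <;> fin_cases j <;> simp [z02, s2]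
    · rw [← hD _ (H02 u)]
      congr 1
      ext i j
      fin_cases i <;> fin_cases j <;> simp [z02, hact_gD, dv]
      · linear_combination -(w * u) * hw3
      · ring
  have L12 : ∀ u, l (z12 u) = 0 := by
    refine off hadd H12 (fun u v => ?_) hw' fun u => ?_
    · ext i j
      fin_cases i <;> fin_cases j <;> simp [z12, s2]
    · rw [← hD _ (H12 u)]
      congr 1
      ext i j
      fin_cases i <;> fin_cases j <;> simp [z12, hact_gD, dv]
      · linear_combination -(w ^ 2 * u) * hw3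
      · ring
  have o2 : (1 : F) ^ 2 = 1 := one_pow 2
  have P0 : l (e2 1) = l (e0 1) := by
    rw [← hP _ (He0 1 o2)]
    congr 1
    ext i j
    fin_cases i <;> fin_cases j <;> simp [e0, e2, hact_gP]
  have P2 : l (e1 1) = l (e2 1) := by
    rw [← hP _ (He2 1 o2)]
    congr 1
    ext i j
    fin_cases i <;> fin_cases j <;> simp [e1, e2, hact_gP]
  have h111 : l (1 : M3 F) = l (e0 1) + l (e1 1) + l (e2 1) := by
    rw [← hadd _ _ (He0 1 o2) (He1 1 o2), ← hadd _ _ (HF_add h2 (He0 1 o2) (He1 1 o2)) (He2 1 o2)]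
    congr 1
    ext i j
    fin_cases i <;> fin_cases j <;> simp [e0, e1, e2]
  have E0 : l (e0 1) = 1 := by
    rw [h1, P2, P0] at h111
    revert h111
    generalize l (e0 1) = t
    revert t
    decide
  have E2 : l (e2 1) = 1 := P0.trans E0
  have E1 : l (e1 1) = 1 := P2.trans E2
  have z0 : l (e0 (0 : F)) = 0 := by
    have : e0 (0 : F) = 0 := by
      ext i j
      fin_cases i <;> fin_cases j <;> simp [e0]
    rw [this, l_zero hadd]
  have z1 : l (e1 (0 : F)) = 0 := by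
    have : e1 (0 : F) = 0 := by
      ext i j
      fin_cases i <;> fin_cases j <;> simp [e1]
    rw [this, l_zero hadd]
  have z2 : l (e2 (0 : F)) = 0 := by
    have : e2 (0 : F) = 0 := by
      ext i j
      fin_cases i <;> fin_cases j <;> simp [e2]
    rw [this, l_zero hadd]
  have A0 : ∀ t : F, t ^ 2 = t → l (e0 t) = tt t := fun t ht => by
    rcases zo ht with rfl | rfl
    · rw [z0, tt_zero]
    · rw [E0, tt_one]
  have A1 : ∀ t : F, t ^ 2 = t → l (e1 t) = tt t := fun t ht => by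
    rcases zo ht with rfl | rfl
    · rw [z1, tt_zero]
    · rw [E1, tt_one]
  have A2 : ∀ t : F, t ^ 2 = t → l (e2 t) = tt t := fun t ht => by
    rcases zo ht with rfl | rfl
    · rw [z2, tt_zero]
    · rw [E2, tt_one]
  have d0 := HF_apply hX 0 0
  have d1 := HF_apply hX 1 1
  have d2 := HF_apply hX 2 2
  have hsum : X = e0 (X 0 0) + e1 (X 1 1) + e2 (X 2 2) + z01 (X 0 1) + z02 (X 0 2) + z12 (X 1 2) := by
    have a10 := HF_apply hX 1 0
    have a20 := HF_apply hX 2 0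
    have a21 := HF_apply hX 2 1
    ext i j
    fin_cases i <;> fin_cases j <;> simp [e0, e1, e2, z01, z02, z12, a10, a20, a21]
  have B0 := He0 _ d0
  have B1 := He1 _ d1
  have B2 := He2 _ d2
  conv_lhs => rw [hsum]
  rw [hadd _ _ (HF_add h2 (HF_add h2 (HF_add h2 (HF_add h2 B0 B1) B2) (H01 _)) (H02 _)) (H12 _),
    hadd _ _ (HF_add h2 (HF_add h2 (HF_add h2 B0 B1) B2) (H01 _)) (H02 _),
    hadd _ _ (HF_add h2 (HF_add h2 B0 B1) B2) (H01 _), hadd _ _ (HF_add h2 B0 B1) B2, hadd _ _ B0 B1, L01, L02, L12,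
    A0 _ d0, A1 _ d1, A2 _ d2, add_zero, add_zero, add_zero]

end

end Cfsg.Agent.H804.L34
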