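import Mathlib

/-!
# Commuting idempotents: dimensions of the joint eigenspaces (helper804, S5917)
-/

set_option autoImplicit false

namespace Cfsg.Agent.H804.L34

open Module

variable {k V ι : Type} [Field k] [AddCommGroup V] [Module k V]

/-- `0 ↦ 0`, `1 ↦ 1` -/
def eps (k : Type) [Field k] (t : ZMod 2) : k := if t = 0 then 0 else 1

theorem eps_zero : eps k 0 = 0 := if_pos rfl
theorem eps_one : eps k 1 = 1 := if_neg (by decide)
theorem eps_inj {s t : ZMod 2} (h : eps k s = eps k t) : s = t := by
  fin_cases s <;> fin_cases t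
  · rfl
  · exact absurd ((eps_zero (k := k)).symm.trans (h.trans eps_one)) zero_ne_one
  · exact absurd ((eps_one (k := k)).symm.trans (h.trans eps_zero)) one_ne_zero
  · rfl

/-- the joint eigenspace -/
def Wt (A : ι → Module.End k V) (l : ι → ZMod 2) : Submodule k V where
  carrier := {v | ∀ i, A i v = eps k (l i) • v}
  add_mem' := fun ha hb i => by rw [map_add, ha i, hb i, smul_add]
  zero_mem' := fun i => by rw [map_zero, smul_zero]
  smul_mem' := fun c x hx i => by rw [map_smul, hx i, smul_comm]

theorem mem_Wt {A : ι → Module.End k V} {l : ι → ZMod 2} {v : V} : v ∈ Wt A l ↔ ∀ i, A i v = eps k (l i) • v := Iff.rfl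

theorem pow_one_sub {f : Module.End k V} (hf : f * f = f) (μ : k) (n : ℕ) (v : V) :
    ((f - μ • (1 : Module.End k V)) ^ n) (f v) = (1 - μ) ^ n • f v := by
  have hff : f (f v) = f v := congrArg (fun g : Module.End k V => g v) hf
  induction n with
  | zero => simp
  | succ n ih =>
    rw [pow_succ', Module.End.mul_apply, ih, map_smul, LinearMap.sub_apply, LinearMap.smul_apply, Module.End.one_apply, hff,
      pow_succ, mul_smul, sub_smul, one_smul]

theorem pow_neg_sub {f : Module.End k V} (hf : f * f = f) (μ : k) (n : ℕ) (v : V) :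
    ((f - μ • (1 : Module.End k V)) ^ n) (v - f v) = (-μ) ^ n • (v - f v) := by
  have hff : f (f v) = f v := congrArg (fun g : Module.End k V => g v) hf
  induction n with
  | zero => simp
  | succ n ih =>
    rw [pow_succ', Module.End.mul_apply, ih, map_smul, LinearMap.sub_apply, LinearMap.smul_apply, Module.End.one_apply, map_sub, hff,
      sub_self, zero_sub, pow_succ, mul_smul, neg_smul]

theorem gen_mem {f : Module.End k V} (hf : f * f = f) {μ : k} {v : V} (hv : v ∈ f.maxGenEigenspace μ) (h0 : v ≠ 0) :
    (μ = 0 ∧ f v = 0) ∨ (μ = 1 ∧ f v = v) := by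
  rw [Module.End.mem_maxGenEigenspace] at hv
  obtain ⟨n, hn⟩ := hv
  have hff : f (f v) = f v := congrArg (fun g : Module.End k V => g v) hf
  have h1 := pow_one_sub hf μ n v
  have h2 := pow_neg_sub hf μ n v
  have hcomm : f (((f - μ • (1 : Module.End k V)) ^ n) v) = ((f - μ • (1 : Module.End k V)) ^ n) (f v) := by
    have : Commute f ((f - μ • (1 : Module.End k V)) ^ n) := by
      refine Commute.pow_right ?_ n
      exact (Commute.refl f).sub_right ((Commute.one_right f).smul_right μ)
    exact congrArg (fun g : Module.End k V => g v) this.eq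
  rw [hn, map_zero] at hcomm
  rw [← hcomm] at h1
  rw [map_sub, hn, ← hcomm, sub_zero] at h2
  have a1 : (1 - μ) ^ n = 0 ∨ f v = 0 := smul_eq_zero.1 h1.symm
  have a2 : (-μ) ^ n = 0 ∨ v - f v = 0 := smul_eq_zero.1 h2.symm
  rcases a1 with a1 | a1
  · have e : μ = 1 := (sub_eq_zero.1 ((pow_eq_zero_iff (by
      rintro rfl; simp at a1)).1 a1)).symm
    rcases a2 with a2 | a2
    · exfalso
      rw [e] at a2
      exact (pow_ne_zero n (neg_ne_zero.2 one_ne_zero)) a2
    · exact Or.inr ⟨e, (sub_eq_zero.1 a2).symm⟩
  · rcases a2 with a2 | a2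
    · have e : μ = 0 := neg_eq_zero.1 ((pow_eq_zero_iff (by
        rintro rfl; simp at a2)).1 a2)
      exact Or.inl ⟨e, a1⟩
    · exact absurd ((sub_eq_zero.1 a2).trans a1) h0

theorem sup_gen {f : Module.End k V} (hf : f * f = f) : ⨆ μ, f.maxGenEigenspace μ = ⊤ := by
  rw [eq_top_iff]
  intro v _
  have hff : f (f v) = f v := congrArg (fun g : Module.End k V => g v) hf
  have h1 : f v ∈ f.maxGenEigenspace 1 := by
    rw [Module.End.mem_maxGenEigenspace]
    exact ⟨1, by rw [pow_one, LinearMap.sub_apply, hff]; simp⟩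
  have h2 : v - f v ∈ f.maxGenEigenspace 0 := by
    rw [Module.End.mem_maxGenEigenspace]
    exact ⟨1, by rw [pow_one, LinearMap.sub_apply, map_sub, hff]; simp⟩
  have e : v = f v + (v - f v) := by abel
  rw [e]
  exact add_mem ((le_iSup (fun μ => f.maxGenEigenspace μ) 1) h1) ((le_iSup (fun μ => f.maxGenEigenspace μ) 0) h2)

section main
variable [FiniteDimensional k V] {A : ι → Module.End k V} (hid : ∀ i, A i * A i = A i)
  (hcomm : ∀ i j, A i * A j = A j * A i)
include hid hcomm

omit hid hcomm [FiniteDimensional k V] in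
theorem Wt_le {l : ι → ZMod 2} : Wt A l ≤ ⨅ i, (A i).maxGenEigenspace (eps k (l i)) := by
  intro v hv
  rw [Submodule.mem_iInf]
  intro i
  rw [Module.End.mem_maxGenEigenspace]
  exact ⟨1, by rw [pow_one, LinearMap.sub_apply, hv i, LinearMap.smul_apply, Module.End.one_apply, sub_self]⟩

theorem indep : iSupIndep (Wt A) := by
  have h1 : iSupIndep fun χ : ι → k => ⨅ i, (A i).maxGenEigenspace (χ i) :=
    Module.End.independent_iInf_maxGenEigenspace_of_forall_mapsTo A
      (fun i j φ => Module.End.mapsTo_maxGenEigenspace_of_comm (show Commute (A j) (A i) from hcomm j i) φ)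
  have h2 : Function.Injective fun (l : ι → ZMod 2) (i : ι) => eps k (l i) := fun l l' h => by
    funext i
    exact eps_inj (congrFun h i)
  exact (h1.comp h2).mono fun l => Wt_le

theorem sup_top : ⨆ l, Wt A l = ⊤ := by
  classical
  have h := Module.End.iSup_iInf_maxGenEigenspace_eq_top_of_iSup_maxGenEigenspace_eq_top_of_commute A
    (fun i j _ => hcomm i j) (fun i => sup_gen (hid i))
  rw [eq_top_iff, ← h]
  refine iSup_le fun χ => ?_
  intro v hv
  by_cases h0 : v = 0
  · rw [h0]; exact zero_mem _
  rw [Submodule.mem_iInf] at hv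
  refine (le_iSup (Wt A) (fun i => if χ i = 0 then 0 else 1)) ?_
  intro i
  rcases gen_mem (hid i) (hv i) h0 with ⟨e, e'⟩ | ⟨e, e'⟩
  · show A i v = eps k (if χ i = 0 then 0 else 1) • v
    rw [if_pos e, e', eps_zero, zero_smul]
  · show A i v = eps k (if χ i = 0 then 0 else 1) • v
    rw [if_neg (by rw [e]; exact one_ne_zero), e', eps_one, one_smul]

omit hid hcomm in
theorem sum_le_of {κ : Type} [Fintype κ] {W : κ → Submodule k V} (h : iSupIndep W) {U : Submodule k V}
    (hU : ∀ i, W i ≤ U) : ∑ i, finrank k (W i) ≤ finrank k U := by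
  classical
  have h1 := h.dfinsupp_lsum_injective
  have h2 : finrank k (DirectSum κ fun i => W i) = ∑ i, finrank k (W i) := Module.finrank_directSum k _
  rw [← h2]
  let T : (DirectSum κ fun i => W i) →ₗ[k] V := DirectSum.coeLinearMap W
  have hT : Function.Injective T := h1
  have hr : ∀ x, T x ∈ U := by
    intro x
    have : LinearMap.range T ≤ U := by
      rw [DirectSum.range_coeLinearMap]
      exact iSup_le hU
    exact this (LinearMap.mem_range_self _ x)
  exact LinearMap.finrank_le_finrank_of_injective (f := T.codRestrict U hr) (fun x y hxy => hT (congrArg Subtype.val hxy))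

theorem sum_eq [Fintype (ι → ZMod 2)] : ∑ l, finrank k (Wt A l) = finrank k V := by
  classical
  have h := DirectSum.isInternal_submodule_of_iSupIndep_of_iSup_eq_top (indep hid hcomm) (sup_top hid hcomm)
  have h2 : finrank k (DirectSum (ι → ZMod 2) fun l => Wt A l) = ∑ l, finrank k (Wt A l) := Module.finrank_directSum k _
  rw [← h2]
  exact (LinearEquiv.ofBijective (DirectSum.coeLinearMap (Wt A)) h).finrank_eq

/-- **the rank of one of the idempotents** -/
theorem sum_range [Fintype (ι → ZMod 2)] (i : ι) :
    ∑ l, (if l i = 1 then finrank k (Wt A l) else 0) = finrank k (LinearMap.range (A i)) := by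
  classical
  have e1 : ∑ l, (if l i = 1 then finrank k (Wt A l) else 0) =
      ∑ l, finrank k ((if l i = 1 then Wt A l else ⊥ : Submodule k V)) := by
    refine Finset.sum_congr rfl fun l _ => ?_
    by_cases hl : l i = 1
    · rw [if_pos hl, if_pos hl]
    · rw [if_neg hl, if_neg hl]
      exact (finrank_bot k V).symm
  have e2 : ∑ l, (if l i = 1 then 0 else finrank k (Wt A l)) =
      ∑ l, finrank k ((if l i = 1 then ⊥ else Wt A l : Submodule k V)) := by
    refine Finset.sum_congr rfl fun l _ => ?_
    by_cases hl : l i = 1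
    · rw [if_pos hl, if_pos hl]
      exact (finrank_bot k V).symm
    · rw [if_neg hl, if_neg hl]
  have h1 : ∑ l, (if l i = 1 then finrank k (Wt A l) else 0) ≤ finrank k (LinearMap.range (A i)) := by
    rw [e1]
    refine sum_le_of ((indep hid hcomm).mono fun l => ?_) fun l => ?_
    · split_ifs
      · exact le_rfl
      · exact bot_le
    · split_ifs with hl
      · intro v hv
        exact ⟨v, by rw [hv i, hl, eps_one, one_smul]⟩
      · exact bot_le
  have h2 : ∑ l, (if l i = 1 then 0 else finrank k (Wt A l)) ≤ finrank k (LinearMap.ker (A i)) := by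
    rw [e2]
    refine sum_le_of ((indep hid hcomm).mono fun l => ?_) fun l => ?_
    · split_ifs
      · exact bot_le
      · exact le_rfl
    · split_ifs with hl
      · exact bot_le
      · intro v hv
        have h0 : l i = 0 := by
          revert hl
          generalize l i = t
          revert t
          decide
        rw [LinearMap.mem_ker, hv i, h0, eps_zero, zero_smul]
  have h3 := sum_eq hid hcomm
  have h4 := LinearMap.finrank_range_add_finrank_ker (A i)
  have h5 : ∑ l, (if l i = 1 then finrank k (Wt A l) else 0) + ∑ l, (if l i = 1 then 0 else finrank k (Wt A l)) =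
      ∑ l, finrank k (Wt A l) := by
    rw [← Finset.sum_add_distrib]
    refine Finset.sum_congr rfl fun l _ => ?_
    split_ifs <;> simp
  omega

end main

end Cfsg.Agent.H804.L34
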