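import Cfsg.Agent.H204.L34.Rank
import Cfsg.Agent.H804.L34.Idem

/-!
# Invertible hermitian `3 × 3` matrices over the field with four elements: there are 280 (helper804, S5917)
-/

set_option autoImplicit false
set_option maxRecDepth 100000

namespace Cfsg.Agent.H804.L34

open Matrix Cfsg.Agent.H691.L34 Cfsg.Agent.H204.L34

section
variable {F : Type} [Field F]

theorem exists_omega [Fintype F] (hF : Fintype.card F = 4) : ∃ w : F, w ^ 2 + w + 1 = 0 := by
  classical
  have h4 : ∀ x : F, x ^ 4 = x := fun x => by rw [← hF]; exact FiniteField.pow_card x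
  obtain ⟨x, -, hx⟩ : ∃ x ∈ (Finset.univ : Finset F), x ∉ ({0, 1} : Finset F) := by
    apply Finset.exists_mem_notMem_of_card_lt_card
    have h1 : ({0, 1} : Finset F).card ≤ 2 := Finset.card_le_two
    rw [Finset.card_univ, hF]
    omega
  rw [Finset.mem_insert, Finset.mem_singleton, not_or] at hx
  refine ⟨x, ?_⟩
  have h := h4 x
  have h1 : x * (x - 1) * (x ^ 2 + x + 1) = 0 := by linear_combination h
  exact (mul_eq_zero.1 h1).resolve_left (mul_ne_zero hx.1 (sub_ne_zero.2 hx.2))

theorem eps_add (h2 : (2 : F) = 0) (a b : ZMod 2) : eps F (a + b) = eps F a + eps F b := by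
  have h11 : (1 : F) + 1 = 0 := by rw [← h2]; norm_num
  fin_cases a <;> fin_cases b
  · show eps F 0 = eps F 0 + eps F 0
    rw [eps_zero, add_zero]
  · show eps F 1 = eps F 0 + eps F 1
    rw [eps_zero, zero_add]
  · show eps F 1 = eps F 1 + eps F 0
    rw [eps_zero, add_zero]
  · show eps F 0 = eps F 1 + eps F 1
    rw [eps_zero, eps_one, h11]

theorem eps_mul (a b : ZMod 2) : eps F (a * b) = eps F a * eps F b := by
  fin_cases a <;> fin_cases b
  · show eps F 0 = eps F 0 * eps F 0
    rw [eps_zero, mul_zero]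
  · show eps F 0 = eps F 0 * eps F 1
    rw [eps_zero, zero_mul]
  · show eps F 0 = eps F 1 * eps F 0
    rw [eps_zero, mul_zero]
  · show eps F 1 = eps F 1 * eps F 1
    rw [eps_one, mul_one]

theorem eps_sq (a : ZMod 2) : (eps F a) ^ 2 = eps F a := by
  rw [pow_two, ← eps_mul]
  congr 1
  revert a
  decide

/-- the elements of `F` -/
def eF (w : F) (i : Fin 4) : F := if i = 0 then 0 else if i = 1 then 1 else if i = 2 then w else w + 1

def mF (i j : Fin 4) : Fin 4 :=
  if i = 0 then 0 else if j = 0 then 0 else if i = 1 then j else if j = 1 then i else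
  if i = 2 then (if j = 2 then 3 else 1) else (if j = 2 then 1 else 2)

def nF (i : Fin 4) : ZMod 2 := if i = 0 then 0 else 1
def tF (i : Fin 4) : ZMod 2 := if i = 0 then 0 else if i = 1 then 0 else 1

variable {w : F} (hw : w ^ 2 + w + 1 = 0) (h2 : (2 : F) = 0)
include hw h2

theorem eF_mul (i j : Fin 4) : eF w (mF i j) = eF w i * eF w j := by
  have e1 : w * w = w + 1 := by linear_combination hw - (w + 1) * h2
  fin_cases i <;> fin_cases j <;> simp [eF, mF]
  · linear_combination -e1
  · linear_combination -hw + (1 : F) * h2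
  · linear_combination -hw + (1 : F) * h2
  · linear_combination -hw

theorem eF_cube (i : Fin 4) : eF w i * (eF w i) ^ 2 = eps F (nF i) := by
  fin_cases i
  · simp [eF, nF, eps]
  · simp [eF, nF, eps]
  · simp [eF, nF, eps]
    linear_combination (w - 1) * hw
  · simp [eF, nF, eps]
    linear_combination (w + 2) * hw - (1 : F) * h2

theorem eF_tr (i : Fin 4) : eF w i + (eF w i) ^ 2 = eps F (tF i) := by
  fin_cases i
  · simp [eF, tF, eps]
  · simp [eF, tF, eps]
    linear_combination h2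
  · simp [eF, tF, eps]
    linear_combination hw - (1 : F) * h2
  · simp [eF, tF, eps]
    linear_combination hw + w * h2

theorem eF_inj {i j : Fin 4} (h : eF w i = eF w j) : i = j := by
  have a0 : w ≠ 0 := by
    rintro rfl
    simp at hw
  have a1 : w ≠ 1 := by
    rintro rfl
    have : (1 : F) = 0 := by linear_combination hw - h2
    exact one_ne_zero this
  have a2 : w + 1 ≠ 0 := by
    intro h
    apply a0
    have : w ^ 2 = 0 := by linear_combination hw - h
    exact pow_eq_zero_iff (two_ne_zero) |>.1 this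
  have a3 : w + 1 ≠ 1 := by
    intro h
    exact a0 (by linear_combination h)
  fin_cases i <;> fin_cases j <;> simp [eF] at h ⊢ <;> first
    | exact a0 h
    | exact a0 h.symm
    | exact a1 h
    | exact a1 h.symm
    | exact a2 h
    | exact a2 h.symm

/-- codes of hermitian matrices -/
abbrev Cd : Type := ZMod 2 × ZMod 2 × ZMod 2 × Fin 4 × Fin 4 × Fin 4

omit hw h2 in
/-- the matrix of a code -/
def mat (w : F) (c : Cd) : M3 F :=
  !![eps F c.1, eF w c.2.2.2.1, eF w c.2.2.2.2.1; (eF w c.2.2.2.1) ^ 2, eps F c.2.1, eF w c.2.2.2.2.2;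
    (eF w c.2.2.2.2.1) ^ 2, (eF w c.2.2.2.2.2) ^ 2, eps F c.2.2.1]

omit hw h2 in
def dc (c : Cd) : ZMod 2 := c.1 * c.2.1 * c.2.2.1 + c.1 * nF c.2.2.2.2.2 + c.2.2.1 * nF c.2.2.2.1 + c.2.1 * nF c.2.2.2.2.1 +
  tF (mF (mF c.2.2.2.1 c.2.2.2.2.2) (mF c.2.2.2.2.1 c.2.2.2.2.1))

omit hw h2 in
theorem mat_HF (h4 : ∀ x : F, x ^ 4 = x) (c : Cd) : HF (mat w c) := by
  have h4' : ∀ x : F, (x ^ 2) ^ 2 = x := fun x => by rw [← pow_mul]; exact h4 x
  unfold HF ct mat
  ext i j
  fin_cases i <;> fin_cases j <;> simp [eps_sq, h4']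

theorem mat_det (h4 : ∀ x : F, x ^ 4 = x) (c : Cd) : (mat w c).det = eps F (dc c) := by
  obtain ⟨a, b, c, i, j, l⟩ := c
  rw [Matrix.det_fin_three]
  simp only [mat, dc, Matrix.of_apply, Matrix.cons_val', Matrix.cons_val_zero, Matrix.cons_val_one, Matrix.cons_val_fin_one,
    Matrix.cons_val]
  rw [eps_add h2, eps_add h2, eps_add h2, eps_add h2, eps_mul, eps_mul, eps_mul, eps_mul, eps_mul, ← eF_cube hw h2 l,
    ← eF_cube hw h2 i, ← eF_cube hw h2 j, ← eF_tr hw h2, eF_mul hw h2, eF_mul hw h2, eF_mul hw h2]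
  have hj := h4 (eF w j)
  linear_combination (-(eps F a * (eF w l * eF w l ^ 2)) - (eF w i * eF w i ^ 2 * eps F c) -
    (eps F b * (eF w j * eF w j ^ 2))) * h2 - (eF w i) ^ 2 * (eF w l) ^ 2 * hj

omit hw h2 in
theorem card_dc : (Finset.univ.filter fun c : Cd => dc c = 1).card = 280 := by
  decide +kernel

theorem mat_inj {c c' : Cd} (h : mat w c = mat w c') : c = c' := by
  obtain ⟨a, b, d, i, j, l⟩ := c
  obtain ⟨a', b', d', i', j', l'⟩ := c'
  have e00 := congrFun (congrFun h 0) 0
  have e11 := congrFun (congrFun h 1) 1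
  have e22 := congrFun (congrFun h 2) 2
  have e01 := congrFun (congrFun h 0) 1
  have e02 := congrFun (congrFun h 0) 2
  have e12 := congrFun (congrFun h 1) 2
  simp only [mat, Matrix.of_apply, Matrix.cons_val', Matrix.cons_val_zero, Matrix.cons_val_one, Matrix.cons_val_fin_one,
    Matrix.cons_val] at e00 e11 e22 e01 e02 e12
  rw [eps_inj e00, eps_inj e11, eps_inj e22, eF_inj hw h2 e01, eF_inj hw h2 e02, eF_inj hw h2 e12]

/-- **at least 280 invertible hermitian matrices** -/
theorem card_herm (h4 : ∀ x : F, x ^ 4 = x) : ∃ s : Finset (M3 F), s.card = 280 ∧ ∀ Y ∈ s, HF Y ∧ Y.det ≠ 0 := by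
  classical
  refine ⟨(Finset.univ.filter fun c : Cd => dc c = 1).image (mat w), ?_, ?_⟩
  · rw [Finset.card_image_of_injective _ fun c c' h => mat_inj hw h2 h, card_dc]
  · intro Y hY
    obtain ⟨c, hc, rfl⟩ := Finset.mem_image.1 hY
    rw [Finset.mem_filter] at hc
    refine ⟨mat_HF h4 c, ?_⟩
    rw [mat_det hw h2 h4, hc.2, eps_one]
    exact one_ne_zero

end

end Cfsg.Agent.H804.L34
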