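import Mathlib

/-!
# Sums over a finite set with a map of order three, modulo three (helper804, S5917)
-/

set_option autoImplicit false

namespace Cfsg.Agent.H804.L34

theorem sext {X : Type} {f : X → ℕ} {t s : Σ x, Fin (f x)} (h1 : t.1 = s.1) (h2 : t.2.1 = s.2.1) : t = s := by
  obtain ⟨x, i⟩ := t
  obtain ⟨y, j⟩ := s
  obtain rfl : x = y := h1
  obtain rfl : i = j := Fin.ext h2
  rfl

theorem sum_mod3 {X : Type} [Fintype X] [DecidableEq X] (a : X → X) (ha : ∀ x, a (a (a x)) = x) (f : X → ℕ)
    (hf : ∀ x, f (a x) = f x) : (∑ x, f x) ≡ ∑ x, (if a x = x then f x else 0) [MOD 3] := by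
  classical
  let T := Σ x, Fin (f x)
  let g : Function.End T := fun t => ⟨a t.1, Fin.cast (hf t.1).symm t.2⟩
  have hg : g ^ 3 ^ 1 = 1 := by
    funext t
    show g (g (g t)) = t
    exact sext (ha t.1) rfl
  have h := Equiv.Perm.card_fixedPoints_modEq hg
  have h1 : Fintype.card T = ∑ x, f x := by
    rw [Fintype.card_sigma]
    exact Finset.sum_congr rfl fun x _ => Fintype.card_fin _
  have h2 : Fintype.card g.fixedPoints = ∑ x, (if a x = x then f x else 0) := by
    have h3 : ∀ t : T, t ∈ (Finset.univ.sigma fun x => if a x = x then (Finset.univ : Finset (Fin (f x))) else ∅) ↔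
        t ∈ g.fixedPoints := by
      intro t
      rw [Finset.mem_sigma]
      constructor
      · rintro ⟨-, h⟩
        by_cases hx : a t.1 = t.1
        · exact sext hx rfl
        · rw [if_neg hx] at h
          exact absurd h (Finset.notMem_empty _)
      · intro h
        refine ⟨Finset.mem_univ _, ?_⟩
        have hx : a t.1 = t.1 := congrArg Sigma.fst h
        rw [if_pos hx]
        exact Finset.mem_univ _
    refine (Fintype.card_of_subtype _ h3).trans ?_
    rw [Finset.card_sigma]
    refine Finset.sum_congr rfl fun x _ => ?_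
    by_cases hx : a x = x
    · rw [if_pos hx, if_pos hx, Finset.card_univ, Fintype.card_fin]
    · rw [if_neg hx, if_neg hx, Finset.card_empty]
  rw [h1, h2] at h
  exact h

end Cfsg.Agent.H804.L34
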