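import Cfsg.Agent.H804.L34.Func
import Cfsg.Agent.H804.L34.Mod3

/-!
# S5917, toral case: nine commuting idempotents permuted by `SL₃(4)` like the hermitian matrices (helper804)

`toral_three` : in a module of dimension `< 280` the rank of the idempotent of the identity matrix is divisible by 3.
-/

set_option autoImplicit false

namespace Cfsg.Agent.H804.L34

open Matrix Cfsg.Agent.H691.L34 Cfsg.Agent.H204.L34

theorem tw_surj {F : Type} [Field F] (b : Bool) (g : G3 F) : ∃ h : G3 F, tw b h = g := by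
  cases b
  · exact ⟨g, rfl⟩
  · refine ⟨it g, ?_⟩
    show it (it g) = g
    apply Subtype.ext
    show ((it g)⁻¹ : G3 F).1.transpose = g.1
    rw [← map_inv]
    show (((g⁻¹)⁻¹ : G3 F).1.transpose).transpose = g.1
    rw [inv_inv, Matrix.transpose_transpose]

section
variable {F : Type} [Field F]

/-- hermitian matrices as a type -/
abbrev HS (F : Type) [Field F] : Type := {X : M3 F // HF X}

variable (h2 : (2 : F) = 0) (h4 : ∀ x : F, x ^ 4 = x)

/-- the action on hermitian matrices -/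
def hE (g : G3 F) (X : HS F) : HS F := ⟨hact g X.1, hact_HF h2 h4 X.2 g⟩

theorem hE_mul (g h : G3 F) (X : HS F) : hE h2 h4 (g * h) X = hE h2 h4 g (hE h2 h4 h X) :=
  Subtype.ext (hact_mul h2 g h X.1)

theorem hE_one (X : HS F) : hE h2 h4 1 X = X := Subtype.ext (hact_one X.1)

/-- the action on functions -/
def aL (g : G3 F) (l : HS F → ZMod 2) (X : HS F) : ZMod 2 := l (hE h2 h4 g X)

theorem aL_mul (g h : G3 F) (l : HS F → ZMod 2) : aL h2 h4 h (aL h2 h4 g l) = aL h2 h4 (g * h) l := by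
  funext X
  show l (hE h2 h4 g (hE h2 h4 h X)) = l (hE h2 h4 (g * h) X)
  rw [hE_mul]

theorem aL_one (l : HS F → ZMod 2) : aL h2 h4 1 l = l := by
  funext X
  show l (hE h2 h4 1 X) = l X
  rw [hE_one]

variable {k V : Type} [Field k] [AddCommGroup V] [Module k V] [FiniteDimensional k V]
  {ρ : Representation k (G3 F) V} {b : Bool} {A : M3 F → Module.End k V}
  (heq : ∀ g X, HF X → ρ g * A X = A (hact (tw b g) X) * ρ g)

/-- the weight spaces -/
def WW (A : M3 F → Module.End k V) (l : HS F → ZMod 2) : Submodule k V := Wt (fun X : HS F => A X.1) l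

include heq

omit [FiniteDimensional k V] in
theorem map_WW (g : G3 F) (l : HS F → ZMod 2) {v : V} (hv : v ∈ WW A (aL h2 h4 (tw b g) l)) : ρ g v ∈ WW A l := by
  intro X
  set Y : HS F := hE h2 h4 (tw b g)⁻¹ X with hY
  have hX : hE h2 h4 (tw b g) Y = X := by rw [hY, ← hE_mul, mul_inv_cancel, hE_one]
  have h1 := congrArg (fun f : Module.End k V => f v) (heq g Y.1 Y.2)
  have h3 : hact (tw b g) Y.1 = X.1 := congrArg Subtype.val hX
  rw [h3] at h1
  have h5 : A Y.1 v = eps k (l X) • v := by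
    have := hv Y
    rw [← hX]
    exact this
  have h6 : ρ g (A Y.1 v) = A X.1 (ρ g v) := h1
  rw [h5, map_smul] at h6
  exact h6.symm

theorem rank_aL_le (g : G3 F) (l : HS F → ZMod 2) :
    Module.finrank k (WW A (aL h2 h4 g l)) ≤ Module.finrank k (WW A l) := by
  obtain ⟨h, rfl⟩ := tw_surj b g
  let T : WW A (aL h2 h4 (tw b h) l) →ₗ[k] WW A l :=
    ((ρ h).comp (Submodule.subtype _)).codRestrict _ fun v => map_WW h2 h4 heq h l v.2
  refine LinearMap.finrank_le_finrank_of_injective (f := T) fun x y hxy => Subtype.ext ?_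
  have h1 : ρ h x.1 = ρ h y.1 := congrArg Subtype.val hxy
  have h3 : ∀ u : V, ρ h⁻¹ (ρ h u) = u := fun u => by
    rw [← Module.End.mul_apply, ← map_mul, inv_mul_cancel, map_one, Module.End.one_apply]
  rw [← h3 x.1, h1, h3]

theorem rank_aL (g : G3 F) (l : HS F → ZMod 2) :
    Module.finrank k (WW A (aL h2 h4 g l)) = Module.finrank k (WW A l) := by
  refine le_antisymm (rank_aL_le h2 h4 heq g l) ?_
  have h := rank_aL_le h2 h4 heq g⁻¹ (aL h2 h4 g l)
  rwa [aL_mul, mul_inv_cancel, aL_one] at h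

omit heq

/-- the functional of the trace -/
noncomputable def tau (X : HS F) : ZMod 2 := tt (X.1 0 0) + tt (X.1 1 1) + tt (X.1 2 2)

theorem tt_add (h2 : (2 : F) = 0) {x y : F} (hx : x ^ 2 = x) (hy : y ^ 2 = y) : tt (x + y) = tt x + tt y ∧ (x + y) ^ 2 = x + y := by
  have h11 : (1 : F) + 1 = 0 := by rw [← h2]; norm_num
  refine ⟨?_, by linear_combination hx + hy + (x * y) * h2⟩
  rcases zo hx with rfl | rfl <;> rcases zo hy with rfl | rfl
  · rw [add_zero, tt_zero, add_zero]
  · rw [zero_add, tt_zero, zero_add]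
  · rw [add_zero, tt_zero, add_zero]
  · rw [h11, tt_zero, tt_one]
    decide

theorem tau_eq (h2 : (2 : F) = 0) (X : HS F) : tau X = tt (X.1.trace) ∧ (X.1.trace) ^ 2 = X.1.trace := by
  have d0 := HF_apply X.2 0 0
  have d1 := HF_apply X.2 1 1
  have d2 := HF_apply X.2 2 2
  have e := tt_add h2 d0 d1
  have e' := tt_add h2 e.2 d2
  rw [Matrix.trace_fin_three]
  exact ⟨by rw [e'.1, e.1]; rfl, e'.2⟩

theorem tt_inj {x y : F} (hx : x ^ 2 = x) (hy : y ^ 2 = y) (h : tt x = tt y) : x = y := by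
  rcases zo hx with rfl | rfl <;> rcases zo hy with rfl | rfl
  · rfl
  · rw [tt_zero, tt_one] at h
    exact absurd h (by decide)
  · rw [tt_zero, tt_one] at h
    exact absurd h (by decide)
  · rfl

/-- the trace form is nondegenerate -/
theorem tr_zero {w : F} (hw : w ^ 2 + w + 1 = 0) (h2 : (2 : F) = 0) (h4 : ∀ x : F, x ^ 4 = x) {Z : M3 F}
    (h : ∀ X, HF X → (Z * X).trace = 0) : Z = 0 := by
  have hh : ∀ u : F, (u ^ 2) ^ 2 = u := fun u => by rw [← pow_mul]; exact h4 u
  have a0 : w ≠ 0 := by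
    rintro rfl
    simp at hw
  have a1 : w - 1 ≠ 0 := by
    intro h
    have : (1 : F) = 0 := by linear_combination hw - (w + 2) * h - h2
    exact one_ne_zero this
  have key : ∀ x y : F, (∀ u : F, x * u ^ 2 + y * u = 0) → x = 0 ∧ y = 0 := by
    intro x y hxy
    have e1 := hxy 1
    have e2 := hxy w
    have e3 : w * (w - 1) * x = 0 := by linear_combination e2 - w * e1
    have ex : x = 0 := (mul_eq_zero.1 e3).resolve_left (mul_ne_zero a0 a1)
    exact ⟨ex, by rw [ex] at e1; linear_combination e1⟩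
  have t0 : Z 0 0 = 0 := by
    have := h (e0 1) (by refine HF_of ?_ ?_ ?_ ?_ ?_ ?_ ?_ ?_ ?_ <;> simp [e0])
    simpa [Matrix.trace_fin_three, Matrix.mul_apply, Fin.sum_univ_three, e0] using this
  have t1 : Z 1 1 = 0 := by
    have := h (e1 1) (by refine HF_of ?_ ?_ ?_ ?_ ?_ ?_ ?_ ?_ ?_ <;> simp [e1])
    simpa [Matrix.trace_fin_three, Matrix.mul_apply, Fin.sum_univ_three, e1] using this
  have t2 : Z 2 2 = 0 := by
    have := h (e2 1) (by refine HF_of ?_ ?_ ?_ ?_ ?_ ?_ ?_ ?_ ?_ <;> simp [e2])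
    simpa [Matrix.trace_fin_three, Matrix.mul_apply, Fin.sum_univ_three, e2] using this
  have k01 := key (Z 0 1) (Z 1 0) fun u => by
    have := h (z01 u) (by refine HF_of ?_ ?_ ?_ ?_ ?_ ?_ ?_ ?_ ?_ <;> simp [z01, hh])
    simpa [Matrix.trace_fin_three, Matrix.mul_apply, Fin.sum_univ_three, z01] using this
  have k02 := key (Z 0 2) (Z 2 0) fun u => by
    have := h (z02 u) (by refine HF_of ?_ ?_ ?_ ?_ ?_ ?_ ?_ ?_ ?_ <;> simp [z02, hh])
    simpa [Matrix.trace_fin_three, Matrix.mul_apply, Fin.sum_univ_three, z02] using this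
  have k12 := key (Z 1 2) (Z 2 1) fun u => by
    have := h (z12 u) (by refine HF_of ?_ ?_ ?_ ?_ ?_ ?_ ?_ ?_ ?_ <;> simp [z12, hh])
    simpa [Matrix.trace_fin_three, Matrix.mul_apply, Fin.sum_univ_three, z12] using this
  ext i j
  fin_cases i <;> fin_cases j <;> simp [t0, t1, t2, k01.1, k01.2, k02.1, k02.2, k12.1, k12.2]

end

section main
variable {F : Type} [Field F] [Fintype F] (hF : Fintype.card F = 4) {k V : Type} [Field k] [AddCommGroup V] [Module k V]
  [FiniteDimensional k V] (hk : (2 : k) = 0)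

/-- the weight space of the trace functional vanishes -/
theorem tau_bot (hF : Fintype.card F = 4) (hV : Module.finrank k V < 280) {ρ : Representation k (G3 F) V} {b : Bool}
    {A : M3 F → Module.End k V} (hid : ∀ X, HF X → A X * A X = A X) (hcomm : ∀ X Y, HF X → HF Y → A X * A Y = A Y * A X)
    (heq : ∀ g X, HF X → ρ g * A X = A (hact (tw b g) X) * ρ g) : Module.finrank k (WW A (tau (F := F))) = 0 := by
  classical
  obtain ⟨w, hw⟩ := exists_omega hF
  have h4 : ∀ x : F, x ^ 4 = x := fun x => by rw [← hF]; exact FiniteField.pow_card x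
  have h2 : (2 : F) = 0 := by
    have h := Nat.cast_card_eq_zero F
    rw [hF] at h
    have h' : (2 : F) * 2 = 0 := by
      rw [← h]; norm_num
    exact (mul_self_eq_zero.1 h')
  have : Fintype (HS F → ZMod 2) := Fintype.ofFinite _
  by_contra h0
  have hpos : 1 ≤ Module.finrank k (WW A (tau (F := F))) := Nat.one_le_iff_ne_zero.2 h0
  obtain ⟨s, hs, hsY⟩ := card_herm hw h2 h4
  have hid' : ∀ X : HS F, A X.1 * A X.1 = A X.1 := fun X => hid X.1 X.2
  have hcomm' : ∀ X Y : HS F, A X.1 * A Y.1 = A Y.1 * A X.1 := fun X Y => hcomm _ _ X.2 Y.2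
  have hsum := sum_eq (A := fun X : HS F => A X.1) hid' hcomm'
  -- the functional of `W`
  let lW : M3 F → HS F → ZMod 2 := fun W X => tt ((W⁻¹ * X.1).trace)
  have hW : ∀ W ∈ s, ∃ g : G3 F, W⁻¹ = ct (g : M3 F) * g.1 ∧ lW W = aL h2 h4 g tau ∧
      ∀ X : HS F, ((W⁻¹ * X.1).trace) ^ 2 = (W⁻¹ * X.1).trace := by
    intro W hWs
    obtain ⟨hH, hd⟩ := hsY W hWs
    have hr : W.rank = (1 : M3 F).rank := by
      rw [Matrix.rank_one, Matrix.rank_of_isUnit _ ((Matrix.isUnit_iff_isUnit_det _).2 hd.isUnit)]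
    obtain ⟨g, hg⟩ := rank_equiv hF hH HF_one hr
    have e1 : g.1 * (W * ct g.1) = 1 := by rw [← Matrix.mul_assoc]; exact hg
    have e2 : (W * ct g.1) * g.1 = 1 := mul_eq_one_comm.1 e1
    have e3 : W * (ct g.1 * g.1) = 1 := by rw [← Matrix.mul_assoc]; exact e2
    have e4 : W⁻¹ = ct g.1 * g.1 := Matrix.inv_eq_right_inv e3
    have e5 : ∀ X : HS F, (W⁻¹ * X.1).trace = (hE h2 h4 g X).1.trace := by
      intro X
      show _ = (g.1 * X.1 * ct g.1).trace
      rw [e4, Matrix.mul_assoc, Matrix.trace_mul_comm]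
    refine ⟨g, e4, ?_, fun X => ?_⟩
    · funext X
      show tt ((W⁻¹ * X.1).trace) = tau (hE h2 h4 g X)
      rw [e5, (tau_eq h2 (hE h2 h4 g X)).1]
    · rw [e5]
      exact (tau_eq h2 (hE h2 h4 g X)).2
  have hinj : Set.InjOn lW (s : Set (M3 F)) := by
    intro W hWs W' hWs' he
    obtain ⟨-, -, -, q⟩ := hW W hWs
    obtain ⟨-, -, -, q'⟩ := hW W' hWs'
    have h1 : W⁻¹ - W'⁻¹ = 0 := by
      refine tr_zero hw h2 h4 fun X hX => ?_
      have h3 := congrFun he ⟨X, hX⟩
      have h5 : (W⁻¹ * X).trace = (W'⁻¹ * X).trace := tt_inj (q ⟨X, hX⟩) (q' ⟨X, hX⟩) h3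
      rw [Matrix.sub_mul, Matrix.trace_sub, h5, sub_self]
    have h3 : W⁻¹ = W'⁻¹ := sub_eq_zero.1 h1
    have u : IsUnit W.det := (hsY W hWs).2.isUnit
    have u' : IsUnit W'.det := (hsY W' hWs').2.isUnit
    rw [← Matrix.nonsing_inv_nonsing_inv W u, h3, Matrix.nonsing_inv_nonsing_inv W' u']
  have h1 : ∑ l ∈ s.image lW, Module.finrank k (WW A l) ≤ ∑ l, Module.finrank k (WW A l) :=
    Finset.sum_le_sum_of_subset (Finset.subset_univ _)
  have h3 : ∑ l ∈ s.image lW, Module.finrank k (WW A l) = ∑ W ∈ s, Module.finrank k (WW A (lW W)) :=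
    Finset.sum_image fun a ha b hb h => hinj ha hb h
  have h5 : s.card ≤ ∑ W ∈ s, Module.finrank k (WW A (lW W)) := by
    rw [Finset.card_eq_sum_ones]
    refine Finset.sum_le_sum fun W hWs => ?_
    obtain ⟨g, -, e, -⟩ := hW W hWs
    rw [e, rank_aL h2 h4 heq]
    exact hpos
  have h6 : ∑ l, Module.finrank k (WW A l) = Module.finrank k V := hsum
  omega

include hk in
/-- **the toral case** -/
theorem toral_three (hF : Fintype.card F = 4) (hV : Module.finrank k V < 280) (ρ : Representation k (G3 F) V) (b : Bool)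
    (A : M3 F → Module.End k V) (hadd : ∀ X Y, HF X → HF Y → A (X + Y) = A X + A Y) (hid : ∀ X, HF X → A X * A X = A X)
    (hcomm : ∀ X Y, HF X → HF Y → A X * A Y = A Y * A X) (heq : ∀ g X, HF X → ρ g * A X = A (hact (tw b g) X) * ρ g) :
    3 ∣ Module.finrank k (LinearMap.range (A 1)) := by
  classical
  obtain ⟨w, hw⟩ := exists_omega hF
  have hw3 : w ^ 3 = 1 := by linear_combination (w - 1) * hw
  have h4 : ∀ x : F, x ^ 4 = x := fun x => by rw [← hF]; exact FiniteField.pow_card x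
  have h2 : (2 : F) = 0 := by
    have h := Nat.cast_card_eq_zero F
    rw [hF] at h
    have h' : (2 : F) * 2 = 0 := by
      rw [← h]; norm_num
    exact (mul_self_eq_zero.1 h')
  have : Fintype (HS F → ZMod 2) := Fintype.ofFinite _
  have hid' : ∀ X : HS F, A X.1 * A X.1 = A X.1 := fun X => hid X.1 X.2
  have hcomm' : ∀ X Y : HS F, A X.1 * A Y.1 = A Y.1 * A X.1 := fun X Y => hcomm _ _ X.2 Y.2
  let I1 : HS F := ⟨1, HF_one⟩
  have hr := sum_range (A := fun X : HS F => A X.1) hid' hcomm' I1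
  let D := gD w hw3
  let P := gP F
  have hDI : hE h2 h4 D I1 = I1 := by
    apply Subtype.ext
    show hact (gD w hw3) (1 : M3 F) = 1
    ext i j
    rw [hact_gD]
    have e : w ^ 2 * (w ^ 2) ^ 2 = 1 := by linear_combination (w ^ 3 + 1) * hw3
    have e' : w * w ^ 2 = 1 := by linear_combination hw3
    fin_cases i <;> fin_cases j <;> simp [dv, e, e']
  have hPI : hE h2 h4 P I1 = I1 := by
    apply Subtype.ext
    show hact (gP F) (1 : M3 F) = 1
    ext i j
    rw [hact_gP, Matrix.one_apply, Matrix.one_apply]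
    simp
  have hD3 : D * (D * D) = 1 := by
    apply Subtype.ext
    show Matrix.diagonal ![1, w, w ^ 2] * (Matrix.diagonal ![1, w, w ^ 2] * Matrix.diagonal ![1, w, w ^ 2]) = 1
    rw [Matrix.diagonal_mul_diagonal, Matrix.diagonal_mul_diagonal, ← Matrix.diagonal_one]
    congr 1
    funext i
    fin_cases i
    · simp
    · show w * (w * w) = 1
      linear_combination hw3
    · show w ^ 2 * (w ^ 2 * w ^ 2) = 1
      linear_combination (w ^ 3 + 1) * hw3
  have hP3 : P * (P * P) = 1 := by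
    apply Subtype.ext
    show (!![0, 1, 0; 0, 0, 1; 1, 0, 0] : M3 F) * (!![0, 1, 0; 0, 0, 1; 1, 0, 0] * !![0, 1, 0; 0, 0, 1; 1, 0, 0]) = 1
    ext i j
    fin_cases i <;> fin_cases j <;> simp [Matrix.mul_apply, Fin.sum_univ_three]
  have hDP : ∀ X : HS F, hE h2 h4 D (hE h2 h4 P X) = hE h2 h4 P (hE h2 h4 D X) := by
    intro X
    apply Subtype.ext
    show hact (gD w hw3) (hact (gP F) X.1) = hact (gP F) (hact (gD w hw3) X.1)
    ext i j
    rw [hact_gD, hact_gP, hact_gP, hact_gD]
    have hs : ∀ i : Fin 3, dv w (i + 1) = w * dv w i := by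
      intro i
      fin_cases i
      · simp [dv]
      · simp [dv, pow_two]
      · simp [dv]
        linear_combination -hw3
    rw [hs, hs]
    linear_combination -(dv w i * X.1 (i + 1) (j + 1) * (dv w j) ^ 2) * hw3
  have hcom : ∀ l : HS F → ZMod 2, aL h2 h4 D (aL h2 h4 P l) = aL h2 h4 P (aL h2 h4 D l) := by
    intro l
    funext X
    show l (hE h2 h4 P (hE h2 h4 D X)) = l (hE h2 h4 D (hE h2 h4 P X))
    rw [hDP]
  have hPinj : ∀ l m : HS F → ZMod 2, aL h2 h4 P l = aL h2 h4 P m → l = m := by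
    intro l m h
    have h' := congrArg (aL h2 h4 P⁻¹) h
    rwa [aL_mul, aL_mul, mul_inv_cancel, aL_one, aL_one] at h'
  let f1 : (HS F → ZMod 2) → ℕ := fun l => if l I1 = 1 then Module.finrank k (WW A l) else 0
  have hf1 : ∀ g : G3 F, hE h2 h4 g I1 = I1 → ∀ l, f1 (aL h2 h4 g l) = f1 l := by
    intro g hg l
    show (if l (hE h2 h4 g I1) = 1 then Module.finrank k (WW A (aL h2 h4 g l)) else 0) = _
    rw [hg, rank_aL h2 h4 heq]
  have m1 := sum_mod3 (aL h2 h4 D) (fun l => by rw [aL_mul, aL_mul, hD3, aL_one]) f1 (hf1 D hDI)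
  let f2 : (HS F → ZMod 2) → ℕ := fun l => if aL h2 h4 D l = l then f1 l else 0
  have m2 := sum_mod3 (aL h2 h4 P) (fun l => by rw [aL_mul, aL_mul, hP3, aL_one]) f2 (fun l => by
    show (if aL h2 h4 D (aL h2 h4 P l) = aL h2 h4 P l then f1 (aL h2 h4 P l) else 0) = if aL h2 h4 D l = l then f1 l else 0
    rw [hcom, hf1 P hPI]
    by_cases h : aL h2 h4 D l = l
    · rw [if_pos h, if_pos (by rw [h])]
    · rw [if_neg h, if_neg fun h' => h (hPinj _ _ h')])
  have m3 : ∑ l, (if aL h2 h4 P l = l then f2 l else 0) = 0 := by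
    refine Finset.sum_eq_zero fun l _ => ?_
    by_cases hlP : aL h2 h4 P l = l
    · rw [if_pos hlP]
      show (if aL h2 h4 D l = l then (if l I1 = 1 then Module.finrank k (WW A l) else 0) else 0) = 0
      by_cases hlD : aL h2 h4 D l = l
      · rw [if_pos hlD]
        by_cases hl1 : l I1 = 1
        · rw [if_pos hl1]
          by_contra h0
          have hne : WW A l ≠ ⊥ := fun h => h0 (by rw [h]; exact finrank_bot k V)
          obtain ⟨v, hv, hv0⟩ := (Submodule.ne_bot_iff _).1 hne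
          have hla : ∀ X Y : HS F, l ⟨X.1 + Y.1, HF_add h2 X.2 Y.2⟩ = l X + l Y := by
            intro X Y
            have a1 : A (X.1 + Y.1) v = eps k (l ⟨X.1 + Y.1, HF_add h2 X.2 Y.2⟩) • v := hv ⟨X.1 + Y.1, HF_add h2 X.2 Y.2⟩
            have a2 : A X.1 v = eps k (l X) • v := hv X
            have a3 : A Y.1 v = eps k (l Y) • v := hv Y
            rw [hadd _ _ X.2 Y.2, LinearMap.add_apply, a2, a3, ← add_smul, ← eps_add hk] at a1
            exact (eps_inj (smul_left_injective k hv0 a1)).symm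
          have hlt : l = tau := by
            let lM : M3 F → ZMod 2 := fun X => if h : HF X then l ⟨X, h⟩ else 0
            have hlM : ∀ X (h : HF X), lM X = l ⟨X, h⟩ := fun X h => dif_pos h
            funext X
            rw [← hlM X.1 X.2]
            refine func_eq hw h2 h4 (hw3 := hw3) ?_ ?_ ?_ ?_ X.2
            · intro Y Z hY hZ
              rw [hlM _ hY, hlM _ hZ, hlM _ (HF_add h2 hY hZ)]
              exact hla ⟨Y, hY⟩ ⟨Z, hZ⟩
            · intro Y hY
              rw [hlM _ hY, hlM _ (hact_HF h2 h4 hY _)]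
              exact congrFun hlD ⟨Y, hY⟩
            · intro Y hY
              rw [hlM _ hY, hlM _ (hact_HF h2 h4 hY _)]
              exact congrFun hlP ⟨Y, hY⟩
            · rw [hlM _ HF_one]
              exact hl1
          rw [hlt] at h0
          exact h0 (tau_bot hF hV hid hcomm heq)
        · rw [if_neg hl1]
      · rw [if_neg hlD]
    · rw [if_neg hlP]
  rw [m3] at m2
  have m4 := m1.trans m2
  have m5 : ∑ l, f1 l = Module.finrank k (LinearMap.range (A 1)) := hr
  rw [m5] at m4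
  exact (Nat.modEq_zero_iff_dvd).1 m4

end main

end Cfsg.Agent.H804.L34
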